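import Cfsg.Agent.S2339
import Cfsg.Agent.S2340
import Cfsg.Agent.S2341
import Cfsg.Agent.S2342
import Cfsg.Agent.S1054
import Cfsg.Agent.H120.Cyc.DegE
import Cfsg.Agent.H514.DP.Core

/-!
# Minimal degrees of the exceptional groups `E₆`, `E₇`, `E₈`, `²E₆`, `³D₄` (helper808)

In the form `H514.DP.MinDeg`.
-/

set_option autoImplicit false

namespace Cfsg.Agent.H808.MD

open Cfsg Cfsg.Lie Cfsg.Agent.H120 Cfsg.Agent.H120.CycExc Cfsg.Agent.KFacts.En.Roots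

universe u

/-- `E₈(q)` : `q (q¹² + 1) (q¹⁰ + 1) (q⁶ + 1)` -/
theorem e8 (F : Type u) [Field F] [Fintype F] : H514.DP.MinDeg ↥(chevE8.group F)
    (Fintype.card F * (Fintype.card F ^ 12 + 1) * (Fintype.card F ^ 10 + 1) * (Fintype.card F ^ 6 + 1)) :=
  fun k ρ hρ hk => Cfsg.Agent.S2339.result k ρ hρ hk

/-- `E₆(q)` : `q (q⁶ + q³ + 1) (q⁴ + 1)` -/
theorem e6 (F : Type u) [Field F] [Fintype F] : H514.DP.MinDeg ↥(chevE6.group F)
    (Fintype.card F * (Fintype.card F ^ 6 + Fintype.card F ^ 3 + 1) * (Fintype.card F ^ 4 + 1)) :=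
  fun k ρ hρ hk => Cfsg.Agent.S2340.result k ρ hρ hk

/-- `²E₆(q)` : `q (q⁶ - q³ + 1) (q⁴ + 1)` -/
theorem te6 (K : Type u) [Field K] [Fintype K] (q : ℕ) (hq : IsPrimePow q) (hK : Fintype.card K = q ^ 2) :
    H514.DP.MinDeg ↥(twistedE6 K q) (q * (q ^ 6 - q ^ 3 + 1) * (q ^ 4 + 1)) :=
  fun k ρ hρ hk => Cfsg.Agent.S2341.result q hq hK k ρ hρ hk

/-- `³D₄(q)` : `q (q⁴ - q² + 1)` -/
theorem td4 (K : Type u) [Field K] [Fintype K] (q : ℕ) (hq : IsPrimePow q) (hK : Fintype.card K = q ^ 3) :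
    H514.DP.MinDeg ↥(twistedD4 K q) (q * (q ^ 4 - q ^ 2 + 1)) :=
  fun k ρ hρ hk => Cfsg.Agent.S2342.result q hq hK k ρ hρ hk

theorem echk7 : EChk chevE7 7 125 124 [109, 110, 111, 112, 113, 114, 115, 116, 117, 118, 119, 120, 121, 122, 123, 124] 15 := by
  decide +kernel

/-- `E₇(q)` : `q¹⁵ (q² - 1)` -/
theorem e7 (F : Type u) [Field F] [Fintype F] : H514.DP.MinDeg ↥(chevE7.group F)
    (Fintype.card F ^ 15 * (Fintype.card F ^ 2 - 1)) := by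
  have hs : IsSimpleGroup ↥(chevE7.group F) := (Cfsg.Agent.S1054.result chevE7 (by simp)).1
  exact fun k ρ hρ hk => (minDeg_E ty_E7 F echk7).irr k ρ hρ hk

end Cfsg.Agent.H808.MD
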